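import Cfsg.Agent.H478.RadTools_m3
import Cfsg.Prelude.Def_KGroupFacts
import Cfsg.Agent.FastGrp
import Cfsg.Agent.Prune
set_option linter.all false
prune_inst 0x7f00000000000000000000000000000000000000000000000000000000000000000000000000000000000000000000000000000000000000000000000000000000000000000000000000000000000000003fffffffffffffffffffffffffffbeffbdffffffff
open scoped Cfsg.Agent.FastGrp

-- part: H51/Rad3/Cube
section
/-!
# Involution tests for elements of order three (helper51, for S3854)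

* `Bad3 x` : some involution `t` generates a nonsolvable group with `x`; `.of_pow`, `.of_conj`, `.of_equiv`,
  `.of_coprime`;
* `irow_of_bad` : `IRow K` if all automorphisms of order three are inner and all elements of order three are bad;
* `of_cube` : Sylow subgroups of order `p ^ 3`, for any predicate closed under powers and conjugation.
-/

set_option autoImplicit false

namespace Cfsg.Agent.H51.Rad3

open Subgroup Cfsg.Agent.H839.Rad Cfsg.Agent.H459.Rad Cfsg.Agent.H978.RadCube
  Cfsg.Agent.SignalizersComponents.ComponentExists Cfsg.Agent.H959.Rad3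

section

variable {K : Type*} [Group K]

/-- some involution generates a nonsolvable group with `x` -/
def Bad3 (x : K) : Prop := ∃ t : K, t * t = 1 ∧ ¬ Group.IsSolvable ↥(closure ({x, t} : Set K))

theorem Bad3.of_pow {x : K} {k : ℕ} (h : Bad3 (x ^ k)) : Bad3 x := by
  obtain ⟨t, ht, hg⟩ := h
  refine ⟨t, ht, fun h1 => hg (isSolvable_of_le ?_ h1)⟩
  rw [closure_le]
  rintro y (rfl | hy)
  · exact pow_mem (subset_closure (by simp)) _
  · rw [Set.mem_singleton_iff] at hy
    rw [hy]
    exact subset_closure (by simp)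

theorem Bad3.of_conj {x : K} (g : K) (h : Bad3 (g * x * g⁻¹)) : Bad3 x := by
  obtain ⟨t, ht, hg⟩ := h
  refine ⟨g⁻¹ * t * g, ?_, fun h1 => hg ?_⟩
  · have : g⁻¹ * t * g * (g⁻¹ * t * g) = g⁻¹ * (t * t) * g := by group
    rw [this, ht]
    group
  have h2 : closure ({g * x * g⁻¹, t} : Set K) =
      (closure ({x, g⁻¹ * t * g} : Set K)).map (MulAut.conj g).toMonoidHom := by
    rw [MonoidHom.map_closure, Set.image_pair]
    simp only [MulEquiv.toMonoidHom_eq_coe, MonoidHom.coe_coe, MulAut.conj_apply]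
    congr 2
    group
  rw [h2]
  exact Group.isSolvable_of_surjective
    ((MulAut.conj g).toMonoidHom.subgroupMap_surjective (closure ({x, g⁻¹ * t * g} : Set K)))

theorem Bad3.of_equiv {L : Type*} [Group L] (e : K ≃* L) {x : K} (h : Bad3 (e x)) : Bad3 x := by
  obtain ⟨t, ht, hg⟩ := h
  refine ⟨e.symm t, by rw [← map_mul, ht, map_one], fun h1 => hg ?_⟩
  have h2 : closure ({e x, t} : Set L) = (closure ({x, e.symm t} : Set K)).map e.toMonoidHom := by
    rw [MonoidHom.map_closure, Set.image_pair]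
    simp
  rw [h2]
  exact Group.isSolvable_of_surjective
    (e.toMonoidHom.subgroupMap_surjective (closure ({x, e.symm t} : Set K)))

/-- the certificate -/
theorem Bad3.of_coprime {x t : K} {n : ℕ} (hx : x ^ 3 = 1) (ht : t * t = 1) (hn : Nat.Coprime n 6)
    (hxt : (x * t) ^ n = 1) (hne : x * t ≠ 1) : Bad3 x :=
  ⟨t, ht, not_solvable_of_coprime (k := 1) hx (by rw [pow_one, pow_two, ht]) hxt hn hne⟩

section Cube

variable {a b c : K}

/-- **The Sylow subgroup of order `p ^ 3`** -/
theorem of_cube [Finite K] (B : K → Prop) (hBp : ∀ (x : K) (k : ℕ), B (x ^ k) → B x)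
    (hBc : ∀ t x : K, B (t * x * t⁻¹) → B x) {p : ℕ} (hp : p.Prime) (hcard : ¬ p ^ 4 ∣ Nat.card K) (hac : a * c = c * a)
    (hbc : b * c = c * b) (hab : a * b = c * (b * a)) (ha : a ^ p = 1) (hb : b ^ p = 1) (hc : c ^ p = 1) (hc1 : c ≠ 1)
    (h1 : B c) (h2 : B b) (h3 : ∀ j < p, B (a * b ^ j)) (x : K) (hx : orderOf x = p) : B x := by
  have : Fact p.Prime := ⟨hp⟩
  have hP := isPGroup_cube hac hbc hab ha hb hc
  obtain ⟨n, hn⟩ := IsPGroup.iff_card.1 hP
  -- the order is `p ^ 3`
  have hncomm : ¬ ∀ u v : ↥(cube hac hbc hab), u * v = v * u := by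
    intro h
    have hma : a ∈ cube hac hbc hab := ⟨1, 0, 0, by simp⟩
    have hmb : b ∈ cube hac hbc hab := ⟨0, 1, 0, by simp⟩
    have h4 := congrArg Subtype.val (h ⟨a, hma⟩ ⟨b, hmb⟩)
    have h5 : a * b = b * a := h4
    rw [hab] at h5
    exact hc1 (mul_eq_right.1 h5)
  have hn3 : 3 ≤ n := by
    by_contra h4
    have h5 : n ≤ 2 := by omega
    apply hncomm
    interval_cases n
    · intro u v
      have h6 : Subsingleton ↥(cube hac hbc hab) := by
        rw [pow_zero] at hn
        exact (Nat.card_eq_one_iff_unique.1 hn).1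
      exact Subsingleton.elim _ _
    · rw [pow_one] at hn
      have h6 := isCyclic_of_prime_card hn
      intro u v
      let _ := IsCyclic.commGroup (α := ↥(cube hac hbc hab))
      exact mul_comm u v
    · intro u v
      let _ := IsPGroup.commGroupOfCardEqPrimeSq hn
      exact mul_comm u v
  have hi : ¬ p ∣ (cube hac hbc hab).index := by
    rintro ⟨t, ht⟩
    apply hcard
    have h4 := card_mul_index (cube hac hbc hab)
    rw [hn, ht] at h4
    rw [← h4]
    obtain ⟨s, rfl⟩ := Nat.exists_eq_add_of_le hn3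
    exact ⟨p ^ s * t, by ring⟩
  -- `x` is conjugate to an element of the cube
  let P : Sylow p K := hP.toSylow hi
  have hxp : IsPGroup p ↥(zpowers x) := IsPGroup.of_card (n := 1) (by rw [Nat.card_zpowers, hx, pow_one])
  obtain ⟨P', hP'⟩ := hxp.exists_le_sylow
  obtain ⟨g, hg⟩ := MulAction.exists_smul_eq K P' P
  have h4 : g * x * g⁻¹ ∈ (P : Subgroup K) := by
    rw [← hg, Sylow.coe_subgroup_smul]
    exact smul_mem_pointwise_smul x (MulAut.conj g) _ (hP' (mem_zpowers x))
  obtain ⟨i, j, k, hijk⟩ := h4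
  have hx1 : g * x * g⁻¹ ≠ 1 := by
    intro h5
    rw [conj_eq_one_iff] at h5
    rw [h5, orderOf_one] at hx
    exact hp.one_lt.ne hx
  apply hBc g
  rw [hijk] at hx1 ⊢
  have zp : ∀ {u : K} (_ : u ^ p = 1) {r s : ℤ} (_ : (r : ZMod p) = s), u ^ r = u ^ s := by
    intro u hu r s hrs
    have h5 : (p : ℤ) ∣ s - r := (ZMod.intCast_eq_intCast_iff_dvd_sub r s p).1 hrs
    obtain ⟨t, ht⟩ := h5
    have h6 : s = r + p * t := by linarith
    rw [h6, zpow_add, zpow_mul, zpow_natCast, hu, one_zpow, mul_one]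
  -- inverses modulo `p`
  have hinv : ∀ r : ℤ, ¬ (r : ZMod p) = 0 → ∃ m : ℕ, ((r * m : ℤ) : ZMod p) = 1 := by
    intro r hr
    refine ⟨((r : ZMod p)⁻¹).val, ?_⟩
    push_cast
    rw [ZMod.natCast_val, ZMod.cast_id, mul_inv_cancel₀ hr]
  by_cases hi0 : (i : ZMod p) = 0
  · have ei : a ^ i = 1 := by rw [zp ha (r := i) (s := 0) (by simpa using hi0), zpow_zero]
    by_cases hj0 : (j : ZMod p) = 0
    · have ej : b ^ j = 1 := by rw [zp hb (r := j) (s := 0) (by simpa using hj0), zpow_zero]
      rw [ei, ej, one_mul, one_mul] at hx1 ⊢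
      have hk0 : ¬ (k : ZMod p) = 0 := by
        intro h5
        exact hx1 (by rw [zp hc (r := k) (s := 0) (by simpa using h5), zpow_zero])
      obtain ⟨m, hm⟩ := hinv k hk0
      refine hBp _ m ?_
      rw [← zpow_natCast, ← zpow_mul, zp hc (r := k * m) (s := 1) (by rw [hm]; simp), zpow_one]
      exact h1
    · obtain ⟨m, hm⟩ := hinv j hj0
      refine hBp _ m ?_
      obtain ⟨k', hk'⟩ := form_pow hac hbc hab i j k m
      have e1 : a ^ (i * (m : ℤ)) = 1 := by rw [zpow_mul, ei, one_zpow]
      rw [hk', e1, one_mul, zp hb (r := j * m) (s := 1) (by rw [hm]; simp), zpow_one]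
      refine hBc (a ^ (-k')) _ ?_
      have h5 := a_bpow hac hbc hab (-k') 1
      rw [mul_one, zpow_one] at h5
      have h6 : a ^ (-k') * (b * c ^ k') * (a ^ (-k'))⁻¹ = b := by
        rw [← mul_assoc, h5]
        have c1 : c ^ (-k') * (b * a ^ (-k')) * c ^ k' = b * a ^ (-k') := by
          have h7 : Commute (b * a ^ (-k')) (c ^ k') :=
            Commute.mul_left ((show Commute b c from hbc).zpow_right k')
              ((show Commute a c from hac).zpow_zpow _ _)
          rw [mul_assoc, h7.eq, ← mul_assoc, ← zpow_add]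
          simp
        rw [c1, mul_inv_cancel_right]
      rw [h6]
      exact h2
  · obtain ⟨m, hm⟩ := hinv i hi0
    refine hBp _ m ?_
    obtain ⟨k', hk'⟩ := form_pow hac hbc hab i j k m
    have ej : b ^ (j * (m : ℤ)) = b ^ ((((j * m : ℤ) : ZMod p)).val) := by
      rw [← zpow_natCast b, zp hb]
      rw [Int.cast_natCast, ZMod.natCast_val, ZMod.cast_id]
    rw [hk', zp ha (r := i * m) (s := 1) (by rw [hm]; simp), zpow_one, ej]
    set r : ℕ := (((j * m : ℤ) : ZMod p)).val
    have hr : r < p := ZMod.val_lt _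
    refine hBc (b ^ (k')) _ ?_
    have h6 : b ^ (k') * (a * b ^ r * c ^ k') * (b ^ (k'))⁻¹ = a * b ^ r := by
      have h5 := bpow_a hbc hab k'
      have h7 : b ^ k' * a = c ^ (-k') * (a * b ^ k') := by
        rw [h5, ← mul_assoc, ← zpow_add]
        simp
      have c1 : Commute (b ^ k') (b ^ r) := by
        rw [← zpow_natCast b]
        exact (Commute.refl b).zpow_zpow _ _
      have c2 : Commute (b ^ k') (c ^ k') := (show Commute b c from hbc).zpow_zpow _ _
      have c3 : Commute (a * b ^ r) (c ^ k') :=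
        Commute.mul_left ((show Commute a c from hac).zpow_right k')
          (((show Commute b c from hbc).zpow_right k').pow_left r)
      calc b ^ (k') * (a * b ^ r * c ^ k') * (b ^ (k'))⁻¹
          = (b ^ k' * a) * b ^ r * c ^ k' * (b ^ k')⁻¹ := by simp only [mul_assoc]
        _ = c ^ (-k') * (a * (b ^ k' * b ^ r)) * c ^ k' * (b ^ k')⁻¹ := by rw [h7]; simp only [mul_assoc]
        _ = c ^ (-k') * (a * (b ^ r * b ^ k')) * c ^ k' * (b ^ k')⁻¹ := by rw [c1.eq]
        _ = c ^ (-k') * (a * b ^ r) * (b ^ k' * c ^ k') * (b ^ k')⁻¹ := by simp only [mul_assoc]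
        _ = c ^ (-k') * ((a * b ^ r) * c ^ k') * (b ^ k' * (b ^ k')⁻¹) := by rw [c2.eq]; simp only [mul_assoc]
        _ = c ^ (-k') * (c ^ k' * (a * b ^ r)) * 1 := by rw [c3.eq, mul_inv_cancel]
        _ = a * b ^ r := by rw [mul_one, ← mul_assoc, ← zpow_add]; simp
    rw [h6]
    exact h3 r hr

/-- the case of order three -/
theorem bad3_of_cube [Finite K] (hcard : ¬ 3 ^ 4 ∣ Nat.card K) (hac : a * c = c * a)
    (hbc : b * c = c * b) (hab : a * b = c * (b * a)) (ha : a ^ 3 = 1) (hb : b ^ 3 = 1) (hc : c ^ 3 = 1) (hc1 : c ≠ 1)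
    (h1 : Bad3 c) (h2 : Bad3 b) (h3 : ∀ j < 3, Bad3 (a * b ^ j)) (x : K) (hx : orderOf x = 3) : Bad3 x :=
  of_cube Bad3 (fun _ _ => Bad3.of_pow) (fun t _ => Bad3.of_conj t) Nat.prime_three hcard hac hbc hab ha hb hc hc1
    h1 h2 h3 x hx

end Cube

end

end Cfsg.Agent.H51.Rad3
end

-- part: H51/Rad3/Inner
section
/-!
# Automorphisms of order three are inner if `|Out| ≤ 2` (helper51, for S3854)
-/

set_option autoImplicit false

namespace Cfsg.Agent.H51.Rad3

open Subgroup Cfsg.Agent.H959.Rad3 Cfsg.Agent.H459.Rad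

theorem inner_of_card {X : Type*} [Group X] [Finite X] (h : Nat.card (Cfsg.Out X) ≤ 2) (x : MulAut X)
    (hx : orderOf x = 3) : ∃ a : X, x = MulAut.conj a := by
  have h1 : orderOf (QuotientGroup.mk x : Cfsg.Out X) ∣ 3 :=
    hx ▸ orderOf_map_dvd (QuotientGroup.mk' _) x
  have hf : Finite (Cfsg.Out X) := Quotient.finite _
  have h2 : orderOf (QuotientGroup.mk x : Cfsg.Out X) ≤ 2 := by
    have h4 : orderOf (QuotientGroup.mk x : Cfsg.Out X) ≤ Nat.card (Cfsg.Out X) :=
      Nat.le_of_dvd Nat.card_pos (orderOf_dvd_natCard _)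
    exact h4.trans h
  have h3 : orderOf (QuotientGroup.mk x : Cfsg.Out X) = 1 := by
    rcases (Nat.dvd_prime Nat.prime_three).1 h1 with h3 | h3
    · exact h3
    · omega
  rw [orderOf_eq_one_iff] at h3
  have h4 := (QuotientGroup.eq_one_iff x).1 h3
  obtain ⟨a, ha⟩ := h4
  exact ⟨a, ha.symm⟩

/-- the row of a simple group with `|Out| ≤ 2`: only inner automorphisms by elements of order three matter, and the
centre is trivial -/
theorem irow_of_inn {K X : Type*} [Group K] [Finite K] [IsSimpleGroup K] [Group X] [Finite X] (e : K ≃* X)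
    (h : Nat.card (Cfsg.Out X) ≤ 2)
    (hb : center X = ⊥ → ∀ a : X, orderOf a = 3 → RC (MulAut.conj a) → Inv (MulAut.conj a) → False) : IRow K := by
  refine IRow.congr e ?_
  have hnt : Nontrivial X := e.symm.toEquiv.nontrivial
  have hs : IsSimpleGroup X := IsSimpleGroup.isSimpleGroup_of_surjective e.toMonoidHom e.surjective
  intro x hx hR hI
  obtain ⟨a, rfl⟩ := inner_of_card h x hx
  rcases (inferInstance : (center X).Normal).eq_bot_or_eq_top with hZ | hZ
  · have hinj : Function.Injective (MulAut.conj : X →* MulAut X) := by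
      rw [← MonoidHom.ker_eq_bot_iff, eq_bot_iff, ← hZ]
      intro z hz
      rw [mem_center_iff]
      intro l
      have h1 : MulAut.conj z l = l := by rw [MonoidHom.mem_ker.1 hz]; rfl
      rw [MulAut.conj_apply] at h1
      calc l * z = (z * l * z⁻¹) * z := by rw [h1]
        _ = z * l := by group
    exact hb hZ a (by rw [← orderOf_injective MulAut.conj hinj, hx]) hR hI
  · have h1 : (MulAut.conj a : MulAut X) = 1 := by
      ext y
      have h2 : a ∈ center X := hZ ▸ mem_top a
      rw [MulAut.conj_apply, ← mem_center_iff.1 h2 y, mul_inv_cancel_right]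
      rfl
    rw [h1, orderOf_one] at hx
    norm_num at hx

/-- **the row**, from the bound for `Out` and the test for all elements of order three -/
theorem irow_of_card {K X : Type*} [Group K] [Finite K] [IsSimpleGroup K] [Group X] [Finite X] (e : K ≃* X)
    (h : Nat.card (Cfsg.Out X) ≤ 2) (hb : ∀ x : X, orderOf x = 3 → Bad3 x) : IRow K := by
  refine irow_of_inn e h fun hZ a ha _ hI => ?_
  obtain ⟨t, ht, hg⟩ := hb a ha
  exact hg (hI.solvable hZ ht)

end Cfsg.Agent.H51.Rad3
end
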